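import Cfsg.Agent.H646.BR.LinType
import Cfsg.Agent.H145.BR.CountDefs

/-!
# The linear type for an arbitrary classical group (helper646, S4891)

* `centralizer_lift` : a homomorphism `π : H →* S` with central kernel of order prime to `p`;
* `exists_sylow_map` : an injective `ι : H →* G` of index prime to `p`;
* `cnt_modEq_of_fix` : if `C(P)` fixes the `P`-fixed points then `cnt P X ≡ card X`;
* `fix_gen`, `cnt_gen` : `S` a quotient of `H` by a central subgroup of order prime to `p`, `H` a subgroup of index prime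
  to `p` of the isometry group `G` : the `P`-fixed points of `Φ.X k`, `d ∣ k`, are fixed by `C_S(P)`.
-/

set_option autoImplicit false

open Module Polynomial

namespace Cfsg.Agent.H646.BR

open Cfsg.Agent.H2.Pol
open Cfsg.Agent.H145.BR

section Groups

variable {p : ℕ} [hp : Fact p.Prime]

theorem centralizer_lift {H S : Type*} [Group H] [Group S] [Finite H] (π : H →* S) (hker : π.ker ≤ Subgroup.center H)
    (hkp : ¬ p ∣ Nat.card π.ker) (P : Subgroup H) (hP : IsPGroup p P) {c : H}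
    (hc : π c ∈ Subgroup.centralizer ((P.map π : Subgroup S) : Set S)) : c ∈ Subgroup.centralizer (P : Set H) := by
  rw [Subgroup.mem_centralizer_iff]
  intro g hg
  have h1 := Subgroup.mem_centralizer_iff.1 hc (π g) ⟨g, hg, rfl⟩
  rw [← map_mul, ← map_mul] at h1
  set z : H := (g * c)⁻¹ * (c * g) with hz
  have hzk : z ∈ π.ker := by rw [MonoidHom.mem_ker, hz, map_mul, map_inv, h1, inv_mul_cancel]
  have hgz : c * g = g * c * z := by rw [hz, mul_inv_cancel_left]
  have hzc : ∀ x : H, x * z = z * x := fun x => Subgroup.mem_center_iff.1 (hker hzk) x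
  obtain ⟨k, hk⟩ := hP ⟨g, hg⟩
  have hgk : g ^ p ^ k = 1 := congrArg Subtype.val hk
  have h2 : c * g * c⁻¹ = g * z := by
    rw [hgz, mul_assoc, mul_assoc, ← hzc c⁻¹, mul_inv_cancel_left]
  have h3 : z ^ p ^ k = 1 := by
    have h4 : (g * z) ^ p ^ k = 1 := by
      rw [← h2, ← MulAut.conj_apply, ← map_pow, hgk, map_one]
    rw [(show Commute g z from hzc g).mul_pow, hgk, one_mul] at h4
    exact h4
  have h5 : z ^ Nat.card π.ker = 1 := by
    have h6 := pow_card_eq_one' (x := (⟨z, hzk⟩ : π.ker))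
    exact congrArg Subtype.val h6
  have hz1 : z = 1 := by
    have h7 : Nat.Coprime (p ^ k) (Nat.card π.ker) := Nat.Coprime.pow_left k ((Nat.Prime.coprime_iff_not_dvd hp.out).2 hkp)
    have h6 := pow_gcd_eq_one.2 ⟨h3, h5⟩
    rwa [h7, pow_one] at h6
  rw [hz1, mul_one] at hgz
  exact hgz.symm

theorem exists_sylow_map {H G : Type*} [Group H] [Group G] [Finite G] (ι : H →* G) (hι : Function.Injective ι)
    (hidx : ¬ p ∣ ι.range.index) (P : Sylow p H) : ∃ P' : Sylow p G, (P' : Subgroup G) = (P : Subgroup H).map ι := by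
  have : Finite H := Finite.of_injective ι hι
  have h1 : IsPGroup p ((P : Subgroup H).map ι) := P.2.map _
  refine ⟨h1.toSylow ?_, rfl⟩
  intro h2
  have h3 : ((P : Subgroup H).map ι).index = (P : Subgroup H).index * ι.range.index :=
    Subgroup.index_map_of_injective _ hι
  rw [h3] at h2
  rcases (Nat.Prime.dvd_mul hp.out).1 h2 with h | h
  · exact P.not_dvd_index h
  · exact hidx h

theorem cnt_modEq_of_fix {S : Type*} [Group S] [Finite S] {X : Type*} [MulAction S X] [Finite X] (P : Sylow p S)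
    (h : ∀ x : X, (∀ g ∈ P, g • x = x) → ∀ c ∈ Subgroup.centralizer ((P : Subgroup S) : Set S), c • x = x) :
    cnt (P : Subgroup S) X ≡ Nat.card X [MOD p] := by
  have h1 : cnt (P : Subgroup S) X = Nat.card (MulAction.fixedPoints (P : Subgroup S) X) := by
    unfold cnt
    refine Nat.card_congr (Equiv.trans (Equiv.symm (Equiv.ofBijective (fun x => Quot.mk _ x) ⟨?_, Quot.mk_surjective⟩)) ?_)
    · intro x y hxy
      have h2 := (Quot.eq).1 hxy
      have h3 : ∀ x y : {x : X // ∀ g ∈ (P : Subgroup S), g • x = x},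
          Relation.EqvGen (fun x y => ∃ c ∈ Subgroup.centralizer ((P : Subgroup S) : Set S), c • x.1 = y.1) x y →
          x = y := by
        intro x y h0
        induction h0 with
        | rel x y h0 =>
          obtain ⟨c, hc, hcx⟩ := h0
          exact Subtype.ext ((h x.1 (fun g hg => x.2 g hg) c hc).symm.trans hcx)
        | refl x => rfl
        | symm x y _ ih => exact ih.symm
        | trans x y z _ _ ih1 ih2 => exact ih1.trans ih2
      exact h3 x y h2
    · exact
        { toFun := fun x => ⟨x.1, fun g => x.2 g.1 g.2⟩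
          invFun := fun x => ⟨x.1, fun g hg => x.2 ⟨g, hg⟩⟩
          left_inv := fun _ => rfl
          right_inv := fun _ => rfl }
  rw [h1]
  exact (IsPGroup.card_modEq_card_fixedPoints P.2 X).symm

end Groups

section Gen

variable {F V : Type*} [Field F] [Fintype F] [AddCommGroup V] [Module F V] [FiniteDimensional F V] {Φ : Pol F V}
  {G : Type*} [Group G] [Finite G] {ρ : G →* (V ≃ₗ[F] V)} {p : ℕ} [hp : Fact p.Prime]

/-- **linear type**, for a group `S` between: `π : H →* S` surjective with central kernel of order prime to `p`,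
`ι : H →* G` injective of index prime to `p`, `G` acting on `V` by `ρ` with the Witt property; `d` with `|F| ^ d = 1` mod `p`
minimal is not needed: `p ∣ |F| ^ d - 1` and `d ∣ dim U` are enough -/
theorem fix_gen (hΦ : Pres Φ ρ) (hW : WittTS Φ ρ) {r : ℕ} [hr : Fact r.Prime] [CharP F r] (hpF : ¬ p ∣ Fintype.card F)
    {s j : ℕ} (hs : s = r ^ j) (hsp : ∀ i : ℕ, ¬ p ∣ s * Fintype.card F ^ i + 1)
    (hLa : ∀ x y y' : V, Φ.L (y + y') x = Φ.L y x + Φ.L y' x) (hLs : ∀ (a : F) (x y : V), Φ.L (a • y) x = a ^ s * Φ.L y x)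
    {H S : Type*} [Group H] [Group S] [Finite S] (ι : H →* G) (hι : Function.Injective ι) (hidx : ¬ p ∣ ι.range.index)
    (π : H →* S) (hπ : Function.Surjective π) (hker : π.ker ≤ Subgroup.center H) (hkp : ¬ p ∣ Nat.card π.ker)
    {U : Submodule F V} (hU : Φ.TI U) {d : ℕ} (hd : p ∣ Fintype.card F ^ d - 1) (hdU : d ∣ finrank F U)
    (P : Sylow p S) (hPU : ∀ h : H, π h ∈ P → mv ρ (ι h) U = U) {c : H}
    (hc : π c ∈ Subgroup.centralizer ((P : Subgroup S) : Set S)) : mv ρ (ι c) U = U := by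
  have _ : Finite H := Finite.of_injective ι hι
  obtain ⟨P1, hP1⟩ := Sylow.mapSurjective_surjective hπ p P
  obtain ⟨P2, hP2⟩ := exists_sylow_map ι hι hidx P1
  have hPe : (P : Subgroup S) = (P1 : Subgroup H).map π := by rw [← hP1]; rfl
  rw [hPe] at hc
  have hc1 := centralizer_lift π hker hkp (P1 : Subgroup H) P1.2 hc
  have hpF' : p.Coprime (Fintype.card F) := (Nat.Prime.coprime_iff_not_dvd hp.out).2 hpF
  obtain ⟨f, hf, hfc⟩ := exists_irr F p
  have hfd : f.natDegree ∣ finrank F U := by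
    refine dvd_trans ?_ hdU
    rw [natDegree_irr hf hfc hpF', orderOf_dvd_iff_pow_eq_one, Units.ext_iff, Units.val_pow_eq_pow_val,
      ZMod.coe_unitOfCoprime, Units.val_one]
    have hpos : 1 ≤ Fintype.card F ^ d := Nat.one_le_pow _ _ Fintype.card_pos
    rw [← Nat.cast_pow, ← Nat.cast_one, eq_comm, ZMod.natCast_eq_natCast_iff]
    exact (Nat.modEq_iff_dvd' hpos).2 hd
  refine main (ρ := ρ) hΦ hW (r := r) hpF' hs hsp hLa hLs hf hfc P2 hU ?_ hfd (c := ι c) ?_
  · intro g hg
    have hg' : g ∈ (P1 : Subgroup H).map ι := by rw [← hP2]; exact hg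
    obtain ⟨g, hg1, rfl⟩ := hg'
    apply hPU
    change π g ∈ (P : Subgroup S)
    rw [hPe]
    exact ⟨g, hg1, rfl⟩
  · rw [hP2, Subgroup.mem_centralizer_iff]
    rintro _ ⟨g, hg, rfl⟩
    rw [← map_mul, ← map_mul, Subgroup.mem_centralizer_iff.1 hc1 g hg]

/-- the count in linear type -/
theorem cnt_gen (hΦ : Pres Φ ρ) (hW : WittTS Φ ρ) {r : ℕ} [hr : Fact r.Prime] [CharP F r] (hpF : ¬ p ∣ Fintype.card F)
    {s j : ℕ} (hs : s = r ^ j) (hsp : ∀ i : ℕ, ¬ p ∣ s * Fintype.card F ^ i + 1)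
    (hLa : ∀ x y y' : V, Φ.L (y + y') x = Φ.L y x + Φ.L y' x) (hLs : ∀ (a : F) (x y : V), Φ.L (a • y) x = a ^ s * Φ.L y x)
    {H S : Type*} [Group H] [Group S] [Finite S] (ι : H →* G) (hι : Function.Injective ι) (hidx : ¬ p ∣ ι.range.index)
    (π : H →* S) (hπ : Function.Surjective π) (hker : π.ker ≤ Subgroup.center H) (hkp : ¬ p ∣ Nat.card π.ker)
    {k : ℕ} [MulAction S (Φ.X k)] (hact : ∀ (h : H) (U : Φ.X k), (π h • U).1 = mv ρ (ι h) U.1) {d : ℕ}
    (hd : p ∣ Fintype.card F ^ d - 1) (hdk : d ∣ k) (P : Sylow p S) :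
    cnt (P : Subgroup S) (Φ.X k) ≡ Nat.card (Φ.X k) [MOD p] := by
  refine cnt_modEq_of_fix P fun U hU c hc => ?_
  obtain ⟨c, rfl⟩ := hπ c
  have h1 := fix_gen hΦ hW hpF hs hsp hLa hLs ι hι hidx π hπ hker hkp U.2.1 hd (by rw [U.2.2]; exact hdk) P
    (fun h hh => by rw [← hact, hU _ hh]) hc
  exact Subtype.ext ((hact c U).trans h1)

end Gen

end Cfsg.Agent.H646.BR
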