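import Cfsg.Agent.H145.BR.RowZ
import Cfsg.Agent.H649.Transport

/-!
# Transport of the rows of S4891 along an isomorphism (helper646)
-/

set_option autoImplicit false

namespace Cfsg.Agent.H646.BR

open Cfsg Cfsg.Agent.H145.BR

universe u v

/-- **`RowZ` is invariant under isomorphisms** -/
theorem rowZ_congr {p : ℕ} {S : Type u} {T : Type v} [Group S] [Group T] (e : S ≃* T) (h : RowZ p T) : RowZ p S := by
  intro A hA M hM
  obtain ⟨θ, h1, h2, h3, h4, h5⟩ := h (A.map (MulAut.congr e).toMonoidHom) (hA.map _) M hM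
  refine ⟨H649.irrMap e.symm θ, ?_, ?_, ?_, fun g => h4 _, fun a ha x => ?_⟩
  · rw [← H649.blkMap_principalBlock e.symm]
    exact H649.irrMap_mem_blkMap.2 h1
  · intro h6
    apply h2
    funext t
    have h7 := congrFun h6 (e.symm t)
    have h8 : (H649.irrMap e.symm θ : S → ℂ) (e.symm t) = (θ : T → ℂ) (e.symm.symm (e.symm t)) := rfl
    rw [h8, MulEquiv.symm_symm, MulEquiv.apply_symm_apply] at h7
    exact h7
  · rw [H649.charDegree_irrMap]
    exact h3
  · have h6 := h5 (MulAut.congr e a) ⟨a, ha, rfl⟩ (e x)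
    have h7 : (MulAut.congr e a) (e x) = e (a x) := by
      change e (a (e.symm (e x))) = e (a x)
      rw [MulEquiv.symm_apply_apply]
    rw [h7] at h6
    exact h6

end Cfsg.Agent.H646.BR
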