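import Cfsg.Agent.H646.BR.UCnt

/-!
# Transitivity of `GU` on totally isotropic subspaces, regularity (helper646, S4891)
-/

set_option autoImplicit false

open Module

namespace Cfsg.Agent.H646.BR.U

open Cfsg Matrix
open Cfsg.Agent.H2.Pol
open Cfsg.Agent.LieClassical.HermBasic Cfsg.Agent.LieClassical.HermSiegel Cfsg.Agent.LieClassical.SUBasic
open Cfsg.Agent.LieClassical
open Cfsg.Agent.ClassicalGeometry.PSUAutBasic Cfsg.Agent.ClassicalGeometry.PSUAutCount

variable {F : Type*} [Field F] [Fintype F] {n q : ℕ}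

/-- `GU` is transitive on the totally isotropic `k`-subspaces -/
theorem gu_trans (hF : Fintype.card F = q ^ 2) {k : ℕ} (U W : uX hF n k) : ∃ A : GU n F q, A • U = W := by
  let e : U.1 ≃ₗ[F] W.1 := LinearEquiv.ofFinrankEq _ _ (U.2.2.trans W.2.2.symm)
  obtain ⟨A, hA⟩ := exists_gu_ext hF U.1 (W.1.subtype ∘ₗ (e : U.1 →ₗ[F] W.1))
    (fun x y hxy => e.injective (Subtype.ext hxy))
    (fun x y => by
      rw [(TI_iff hF).1 U.2.1 x x.2 y y.2]
      exact (TI_iff hF).1 W.2.1 (e x) (e x).2 (e y) (e y).2)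
  refine ⟨A, Subtype.ext ?_⟩
  rw [gu_smul]
  apply Submodule.eq_of_le_of_finrank_eq
  · rintro _ ⟨x, hx, rfl⟩
    have h1 : guL n F q A x = e ⟨x, hx⟩ := hA ⟨x, hx⟩
    change guL n F q A x ∈ W.1
    rw [h1]
    exact (e ⟨x, hx⟩).2
  · rw [finrank_mv, U.2.2, W.2.2]

theorem exists_reg (hF : Fintype.card F = q ^ 2) (n : ℕ) : ∃ cc : ℕ → ℕ, (hpol hF n).Reg cc := by
  classical
  refine ⟨fun k => if h : Nonempty (uX hF n k) then Nat.card {W : uX hF n (k + 1) // (Classical.choice h).1 ≤ W.1} else 0, ?_⟩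
  intro k U
  have h : Nonempty (uX hF n k) := ⟨U⟩
  simp only [dif_pos h]
  obtain ⟨A, hA⟩ := gu_trans hF U (Classical.choice h)
  refine Nat.card_congr ?_
  refine Equiv.subtypeEquiv (MulAction.toPerm A) fun W => ?_
  rw [← hA]
  constructor
  · intro h1
    exact mv_mono (guL n F q) A h1
  · intro h1
    have h2 := mv_mono (guL n F q) A⁻¹ h1
    change mv (guL n F q) A⁻¹ (mv (guL n F q) A U.1) ≤ mv (guL n F q) A⁻¹ (mv (guL n F q) A W.1) at h2
    rwa [← mv_mul, ← mv_mul, inv_mul_cancel, mv_one, mv_one] at h2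

end Cfsg.Agent.H646.BR.U
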