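import Cfsg.Agent.H2.Pol.Defs

/-!
# Groups of isometries acting on the totally singular subspaces (helper646, S4891)

For `ρ : G →* (V ≃ₗ[F] V)` preserving `Φ : Pol F V` : the action of `G` on `Φ.X k`.
-/

set_option autoImplicit false

open Module

namespace Cfsg.Agent.H646.BR

open Cfsg.Agent.H2.Pol

variable {F V : Type*} [Field F] [AddCommGroup V] [Module F V] {Φ : Pol F V} {G : Type*} [Group G]

/-- `ρ` preserves the polar structure -/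
def Pres (Φ : Pol F V) (ρ : G →* (V ≃ₗ[F] V)) : Prop :=
  ∀ g : G, (∀ x y, Φ.L (ρ g y) (ρ g x) = Φ.L y x) ∧ ∀ x, Φ.sing x → Φ.sing (ρ g x)

theorem Pres.TI {ρ : G →* (V ≃ₗ[F] V)} (h : Pres Φ ρ) (g : G) {U : Submodule F V} (hU : Φ.TI U) :
    Φ.TI (U.map (ρ g : V →ₗ[F] V)) := by
  refine ⟨?_, ?_⟩
  · rintro _ ⟨x, hx, rfl⟩
    exact (h g).2 x (hU.1 x hx)
  · rintro _ ⟨x, hx, rfl⟩ _ ⟨y, hy, rfl⟩
    exact ((h g).1 x y).trans (hU.2 x hx y hy)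

/-- the image of a subspace -/
def mv (ρ : G →* (V ≃ₗ[F] V)) (g : G) (U : Submodule F V) : Submodule F V := U.map (ρ g : V →ₗ[F] V)

theorem mem_mv {ρ : G →* (V ≃ₗ[F] V)} {g : G} {U : Submodule F V} {x : V} :
    x ∈ mv ρ g U ↔ ρ g⁻¹ x ∈ U := by
  have h1 : ρ g (ρ g⁻¹ x) = x := by
    rw [← LinearEquiv.mul_apply, ← map_mul, mul_inv_cancel, map_one, LinearEquiv.coe_one, id]
  constructor
  · rintro ⟨y, hy, rfl⟩
    have h2 : ρ g⁻¹ ((ρ g : V →ₗ[F] V) y) = y := by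
      change ρ g⁻¹ (ρ g y) = y
      rw [← LinearEquiv.mul_apply, ← map_mul, inv_mul_cancel, map_one, LinearEquiv.coe_one, id]
    rw [h2]
    exact hy
  · intro h
    exact ⟨ρ g⁻¹ x, h, h1⟩

theorem mem_mv_of_mem {ρ : G →* (V ≃ₗ[F] V)} {g : G} {U : Submodule F V} {x : V} (hx : x ∈ U) : ρ g x ∈ mv ρ g U :=
  ⟨x, hx, rfl⟩

theorem mv_one (ρ : G →* (V ≃ₗ[F] V)) (U : Submodule F V) : mv ρ 1 U = U := by
  ext x
  rw [mem_mv, inv_one, map_one, LinearEquiv.coe_one, id]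

theorem mv_mul (ρ : G →* (V ≃ₗ[F] V)) (g h : G) (U : Submodule F V) : mv ρ (g * h) U = mv ρ g (mv ρ h U) := by
  ext x
  rw [mem_mv, mem_mv, mem_mv, mul_inv_rev, map_mul, LinearEquiv.mul_apply]

theorem finrank_mv (ρ : G →* (V ≃ₗ[F] V)) (g : G) (U : Submodule F V) : finrank F (mv ρ g U) = finrank F U :=
  LinearEquiv.finrank_map_eq (ρ g) U

theorem mv_mono (ρ : G →* (V ≃ₗ[F] V)) (g : G) {U W : Submodule F V} (h : U ≤ W) : mv ρ g U ≤ mv ρ g W :=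
  Submodule.map_mono h

/-- the action on `Φ.X k` -/
@[reducible] def actX (ρ : G →* (V ≃ₗ[F] V)) (h : Pres Φ ρ) (k : ℕ) : MulAction G (Φ.X k) where
  smul g U := ⟨mv ρ g U.1, h.TI g U.2.1, (finrank_mv ρ g U.1).trans U.2.2⟩
  one_smul U := Subtype.ext (mv_one ρ U.1)
  mul_smul g h U := Subtype.ext (mv_mul ρ g h U.1)

end Cfsg.Agent.H646.BR
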