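import Mathlib

/-!
# Elements of prime order over a finite field (helper646, S4891)

`F` a finite field of characteristic `r`, `p ≠ r` a prime, `f` an irreducible factor of the cyclotomic polynomial `Φ_p`
over `F`, of degree `d = ord_p |F|`.

* `exists_z` : if `d ∣ dim U` there is a `z` in `GL(U)` with `z ^ p = 1` and `f (z) = 0`;
* `form_zero` : if no `s |F| ^ i + 1` is divisible by `p` (`s` a power of `r`), there is no nonzero form on `U`, linear in the
  first variable and `x ↦ x ^ s`-semilinear in the second, which is invariant under such a `z`.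
-/

set_option autoImplicit false

open Module Polynomial

namespace Cfsg.Agent.H646.BR

section Field

variable {F : Type*} [Field F] [Fintype F] {p : ℕ} [hp : Fact p.Prime]

/-- an irreducible factor of the cyclotomic polynomial -/
theorem exists_irr (F : Type*) [Field F] (p : ℕ) [hp : Fact p.Prime] : ∃ f : F[X], Irreducible f ∧ f ∣ cyclotomic p F := by
  obtain ⟨f, hf, h⟩ := Polynomial.exists_irreducible_of_natDegree_pos (f := cyclotomic p F)
    (by rw [natDegree_cyclotomic, Nat.totient_prime hp.out]; exact Nat.sub_pos_of_lt hp.out.one_lt)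
  exact ⟨f, hf, h⟩

omit hp in
theorem natDegree_irr {f : F[X]} (hf : Irreducible f) (hfc : f ∣ cyclotomic p F) (hpF : p.Coprime (Fintype.card F)) :
    f.natDegree = orderOf (ZMod.unitOfCoprime _ hpF.symm) := by
  obtain ⟨r, hr⟩ := CharP.exists F
  obtain ⟨k, hrp, hk⟩ := FiniteField.card F r
  have := Fact.mk hrp
  have hrp' : r.Coprime p := by
    have h1 : p.Coprime (r ^ (k : ℕ)) := hk ▸ hpF
    exact (Nat.Coprime.coprime_dvd_right (dvd_pow_self r k.ne_zero) h1).symm
  have h2 := natDegree_of_dvd_cyclotomic_of_irreducible hk hrp' hfc hf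
  rw [h2]
  congr 1
  apply Units.ext
  rw [ZMod.coe_unitOfCoprime, ZMod.coe_unitOfCoprime, hk]

variable {f : F[X]} [hf : Fact (Irreducible f)]

omit hp in
theorem primitive_root (hfc : f ∣ cyclotomic p F) (hpF : p.Coprime (Fintype.card F)) :
    IsPrimitiveRoot (AdjoinRoot.root f) p := by
  have h0 : (p : F) ≠ 0 := by
    obtain ⟨r, hr⟩ := CharP.exists F
    obtain ⟨k, hrp, hk⟩ := FiniteField.card F r
    intro h
    have h1 : r ∣ p := (CharP.cast_eq_zero_iff F r p).1 h
    have h2 : r ∣ Nat.gcd p (Fintype.card F) := Nat.dvd_gcd h1 (by rw [hk]; exact dvd_pow_self r k.ne_zero)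
    rw [hpF] at h2
    exact hrp.one_lt.ne' (Nat.dvd_one.1 h2)
  have h1 : NeZero ((p : ℕ) : AdjoinRoot f) := by
    refine ⟨fun h => h0 ?_⟩
    have h2 : algebraMap F (AdjoinRoot f) (p : F) = 0 := by rw [map_natCast]; exact h
    exact (map_eq_zero _).1 h2
  have h3 := (AdjoinRoot.isRoot_root f).dvd (Polynomial.map_dvd (AdjoinRoot.of f) hfc)
  rw [map_cyclotomic] at h3
  exact (isRoot_cyclotomic_iff).1 h3

instance finite_adj : Module.Finite F (AdjoinRoot f) :=
  (AdjoinRoot.powerBasis hf.out.ne_zero).finite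

theorem exists_pow_of_root {y : AdjoinRoot f} (hy : aeval y f = 0) :
    ∃ i : ℕ, y = AdjoinRoot.root f ^ (Fintype.card F ^ i) := by
  have _ : Finite (AdjoinRoot f) := Module.finite_of_finite F
  let φ : AdjoinRoot f →ₐ[F] AdjoinRoot f := AdjoinRoot.liftAlgHom f (Algebra.ofId F (AdjoinRoot f)) y hy
  obtain ⟨i, hi⟩ := (FiniteField.bijective_frobeniusAlgHom_pow F (AdjoinRoot f)).2 φ
  refine ⟨i, ?_⟩
  have h1 : φ (AdjoinRoot.root f) = y := AdjoinRoot.liftAlgHom_root ..
  have h2 : (FiniteField.frobeniusAlgHom F (AdjoinRoot f) ^ (i : ℕ)) (AdjoinRoot.root f) =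
      AdjoinRoot.root f ^ (Fintype.card F ^ (i : ℕ)) := by
    rw [AlgHom.coe_pow, FiniteField.coe_frobeniusAlgHom, pow_iterate]
  rw [← h1, ← hi]
  exact h2

/-- the twisted reciprocal of `f` does not vanish at the root of `f` -/
theorem recip_ne_zero {r : ℕ} [hr : Fact r.Prime] [CharP F r] (hfc : f ∣ cyclotomic p F)
    (hpF : p.Coprime (Fintype.card F)) {s j : ℕ} (hs : s = r ^ j)
    (hsp : ∀ i : ℕ, ¬ p ∣ s * Fintype.card F ^ i + 1) :
    ∑ m ∈ Finset.range (f.natDegree + 1), algebraMap F (AdjoinRoot f) (f.coeff m ^ s) *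
      AdjoinRoot.root f ^ (f.natDegree - m) ≠ 0 := by
  intro h0
  have _ : Finite (AdjoinRoot f) := Module.finite_of_finite F
  have hζ := primitive_root hfc hpF
  have _ : CharP (AdjoinRoot f) r := charP_of_injective_algebraMap (algebraMap F (AdjoinRoot f)).injective r
  set ζ := AdjoinRoot.root f with hζd
  have hps : s.Coprime p := by
    obtain ⟨k, hrp, hk⟩ := FiniteField.card F r
    have h1 : p.Coprime (r ^ (k : ℕ)) := hk ▸ hpF
    have h2 : r.Coprime p := (Nat.Coprime.coprime_dvd_right (dvd_pow_self r k.ne_zero) h1).symm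
    rw [hs]
    exact h2.pow_left j
  -- `t` with `s t + 1 = 0` modulo `p`
  obtain ⟨t, ht⟩ : ∃ t : ℕ, p ∣ s * t + 1 := by
    have h1 : IsUnit (s : ZMod p) := (ZMod.isUnit_iff_coprime s p).2 hps
    obtain ⟨u, hu⟩ := h1
    refine ⟨(-((u⁻¹ : (ZMod p)ˣ) : ZMod p)).val, ?_⟩
    rw [← ZMod.natCast_eq_zero_iff, Nat.cast_add, Nat.cast_mul, ZMod.natCast_zmod_val, ← hu, mul_neg, Units.mul_inv,
      Nat.cast_one, neg_add_cancel]
  set y : AdjoinRoot f := ζ ^ t with hy
  have hyζ : y ^ s * ζ = 1 := by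
    rw [hy, ← pow_mul, mul_comm t s, ← pow_succ]
    exact (hζ.pow_eq_one_iff_dvd _).2 ht
  have hfrob : ∀ a b : AdjoinRoot f, (a + b) ^ s = a ^ s + b ^ s := by
    intro a b
    rw [hs]
    exact add_pow_char_pow ..
  have hsum : ∀ (u : Finset ℕ) (g : ℕ → AdjoinRoot f), (∑ m ∈ u, g m) ^ s = ∑ m ∈ u, g m ^ s := by
    intro u g
    induction u using Finset.cons_induction with
    | empty => rw [Finset.sum_empty, Finset.sum_empty, zero_pow (by rw [hs]; exact pow_ne_zero j hr.out.ne_zero)]
    | cons a u ha ih => rw [Finset.sum_cons, Finset.sum_cons, hfrob, ih]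
  have hy0 : aeval y f = 0 := by
    have h1 : (aeval y f) ^ s * ζ ^ f.natDegree = 0 := by
      rw [← h0, aeval_eq_sum_range, hsum, Finset.sum_mul]
      refine Finset.sum_congr rfl fun m hm => ?_
      have hm' : m ≤ f.natDegree := Nat.lt_succ_iff.1 (Finset.mem_range.1 hm)
      have h2 : ζ ^ f.natDegree = ζ ^ m * ζ ^ (f.natDegree - m) := by rw [← pow_add, Nat.add_sub_cancel' hm']
      have h3 : (y ^ m) ^ s * ζ ^ m = 1 := by
        rw [← pow_mul, mul_comm m s, pow_mul, ← mul_pow, hyζ, one_pow]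
      rw [Algebra.smul_def, mul_pow, h2, map_pow]
      linear_combination (algebraMap F (AdjoinRoot f) (f.coeff m)) ^ s * ζ ^ (f.natDegree - m) * h3
    have h2 : ζ ^ f.natDegree ≠ 0 := pow_ne_zero _ (hζ.ne_zero hp.out.ne_zero)
    exact (pow_eq_zero_iff (by rw [hs]; exact pow_ne_zero j hr.out.ne_zero)).1 ((mul_eq_zero.1 h1).resolve_right h2)
  obtain ⟨i, hi⟩ := exists_pow_of_root hy0
  apply hsp i
  rw [← hζ.pow_eq_one_iff_dvd, pow_succ, mul_comm s, pow_mul]
  rw [← hζd] at hi
  rw [← hi, hyζ]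

end Field

section Form

variable {F : Type*} [Field F] [Fintype F] {p : ℕ} [hp : Fact p.Prime] {f : F[X]}
  {U : Type*} [AddCommGroup U] [Module F U]

/-- no invariant form -/
theorem form_zero (hf : Irreducible f) {r : ℕ} [hr : Fact r.Prime] [CharP F r] (hfc : f ∣ cyclotomic p F)
    (hpF : p.Coprime (Fintype.card F)) {s j : ℕ} (hs : s = r ^ j)
    (hsp : ∀ i : ℕ, ¬ p ∣ s * Fintype.card F ^ i + 1) (z : U →ₗ[F] U) (hz : aeval z f = 0)
    (β : U → U → F) (hadd : ∀ x x' y, β (x + x') y = β x y + β x' y) (hsmul : ∀ (a : F) (x y : U), β (a • x) y = a * β x y)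
    (hadd' : ∀ x y y', β x (y + y') = β x y + β x y') (hsmul' : ∀ (a : F) (x y : U), β x (a • y) = a ^ s * β x y)
    (hinv : ∀ x y, β (z x) (z y) = β x y) (u v : U) : β u v = 0 := by
  have := Fact.mk hf
  set N := f.natDegree with hN
  set g : F[X] := ∑ m ∈ Finset.range (N + 1), C (f.coeff m ^ s) * X ^ (N - m) with hg
  have hfg : ¬ f ∣ g := by
    intro h
    obtain ⟨w, hw⟩ := h
    have h1 : aeval (AdjoinRoot.root f) g = 0 := by
      rw [hw, map_mul, AdjoinRoot.aeval_eq, AdjoinRoot.mk_self, zero_mul]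
    apply recip_ne_zero hfc hpF hs hsp
    rw [← h1, hg, map_sum]
    refine Finset.sum_congr rfl fun m _ => ?_
    rw [map_mul, aeval_C, aeval_X_pow]
  obtain ⟨a, b, hab⟩ := (hf.coprime_iff_not_dvd).2 hfg
  -- the linear functional
  have hzero : ∀ y, β 0 y = 0 := fun y => by
    have := hsmul 0 0 y
    rwa [zero_smul, zero_mul] at this
  have hzero' : ∀ x, β x 0 = 0 := fun x => by
    have := hadd' x 0 0
    rw [add_zero] at this
    exact left_eq_add.1 this
  have hpow : ∀ (m : ℕ) (x y : U), β ((z ^ m) x) ((z ^ m) y) = β x y := by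
    intro m
    induction m with
    | zero => intro x y; rfl
    | succ m ih =>
      intro x y
      rw [pow_succ', Module.End.mul_apply, Module.End.mul_apply, hinv, ih]
  have hsumL : ∀ (w : Finset ℕ) (φ : ℕ → U) (y : U), β (∑ m ∈ w, φ m) y = ∑ m ∈ w, β (φ m) y := by
    intro w φ y
    induction w using Finset.cons_induction with
    | empty => rw [Finset.sum_empty, Finset.sum_empty, hzero]
    | cons a w ha ih => rw [Finset.sum_cons, Finset.sum_cons, hadd, ih]
  have hsumR : ∀ (w : Finset ℕ) (φ : ℕ → U) (x : U), β x (∑ m ∈ w, φ m) = ∑ m ∈ w, β x (φ m) := by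
    intro w φ y
    induction w using Finset.cons_induction with
    | empty => rw [Finset.sum_empty, Finset.sum_empty, hzero']
    | cons a w ha ih => rw [Finset.sum_cons, Finset.sum_cons, hadd', ih]
  have hgx : ∀ x y : U, β (aeval z g x) y = 0 := by
    intro x y
    have h1 : aeval z g x = ∑ m ∈ Finset.range (N + 1), (f.coeff m ^ s) • (z ^ (N - m)) x := by
      rw [hg, map_sum, LinearMap.sum_apply]
      refine Finset.sum_congr rfl fun m _ => ?_
      rw [map_mul, aeval_C, aeval_X_pow, Module.End.mul_apply, Module.algebraMap_end_apply]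
    have h2 : (0 : U) = ∑ m ∈ Finset.range (N + 1), f.coeff m • (z ^ m) y := by
      have h3 : aeval z f y = 0 := by rw [hz, LinearMap.zero_apply]
      rw [← h3, aeval_eq_sum_range, LinearMap.sum_apply]
      rfl
    rw [h1, hsumL, ← hzero' ((z ^ N) x), h2, hsumR]
    refine Finset.sum_congr rfl fun m hm => ?_
    have hm' : m ≤ N := Nat.lt_succ_iff.1 (Finset.mem_range.1 hm)
    have h3 : (z ^ N) x = (z ^ m) ((z ^ (N - m)) x) := by
      rw [← Module.End.mul_apply, ← pow_add, Nat.add_sub_cancel' hm']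
    rw [hsmul, hsmul', h3, hpow]
  have h1 : u = aeval z f (aeval z a u) + aeval z g (aeval z b u) := by
    rw [← Module.End.mul_apply, ← Module.End.mul_apply, ← map_mul, ← map_mul, ← LinearMap.add_apply, ← map_add,
      mul_comm f a, mul_comm g b, hab, map_one, Module.End.one_apply]
  rw [h1, hadd, hgx, hz, LinearMap.zero_apply, hzero, add_zero]

end Form

section Exists

variable {F : Type*} [Field F] [Fintype F] {p : ℕ} [hp : Fact p.Prime] {f : F[X]}
  {U : Type*} [AddCommGroup U] [Module F U] [FiniteDimensional F U]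

/-- `z` in `GL(U)` with `f z = 0` and `z ^ p = 1` -/
theorem exists_z (hf : Irreducible f) (hfc : f ∣ cyclotomic p F) (hpF : p.Coprime (Fintype.card F))
    (hd : f.natDegree ∣ finrank F U) : ∃ z : U ≃ₗ[F] U, z ^ p = 1 ∧ aeval (z : U →ₗ[F] U) f = 0 := by
  have := Fact.mk hf
  obtain ⟨b, hb⟩ := hd
  have h1 : finrank F (AdjoinRoot f) = f.natDegree := by
    rw [(AdjoinRoot.powerBasis hf.ne_zero).finrank, AdjoinRoot.powerBasis_dim hf.ne_zero]
  have h2 : finrank F (Fin b → AdjoinRoot f) = finrank F U := by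
    rw [Module.finrank_pi_fintype, Finset.sum_const, Finset.card_univ, Fintype.card_fin, h1, hb, smul_eq_mul, mul_comm]
  let e : (Fin b → AdjoinRoot f) ≃ₗ[F] U := LinearEquiv.ofFinrankEq _ _ h2
  have hζ := primitive_root hfc hpF
  set ζ := AdjoinRoot.root f with hζd
  have hζ0 : ζ ≠ 0 := hζ.ne_zero hp.out.ne_zero
  let m : (Fin b → AdjoinRoot f) →ₗ[F] (Fin b → AdjoinRoot f) :=
    { toFun := fun v i => ζ * v i
      map_add' := fun v w => by funext i; exact mul_add _ _ _
      map_smul' := fun c v => by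
        funext i
        change ζ * (c • v i) = c • (ζ * v i)
        rw [mul_smul_comm] }
  have hmpow : ∀ (k : ℕ) (v : Fin b → AdjoinRoot f), (m ^ k) v = fun i => ζ ^ k * v i := by
    intro k
    induction k with
    | zero => intro v; funext i; rw [pow_zero, pow_zero, one_mul]; rfl
    | succ k ih =>
      intro v
      rw [pow_succ', Module.End.mul_apply, ih]
      funext i
      change ζ * (ζ ^ k * v i) = _
      rw [pow_succ', mul_assoc]
  have hmf : aeval m f = 0 := by
    apply LinearMap.ext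
    intro v
    rw [aeval_eq_sum_range, LinearMap.sum_apply, LinearMap.zero_apply]
    funext i
    rw [Finset.sum_apply]
    have h3 : ∀ k ∈ Finset.range (f.natDegree + 1), ((f.coeff k • m ^ k) v) i = (f.coeff k • ζ ^ k) * v i := by
      intro k _
      rw [LinearMap.smul_apply, hmpow, Pi.smul_apply, smul_mul_assoc]
    rw [Finset.sum_congr rfl h3, ← Finset.sum_mul, ← aeval_eq_sum_range, hζd, AdjoinRoot.aeval_eq, AdjoinRoot.mk_self,
      zero_mul]
    rfl
  have hmp : m ^ p = 1 := by
    apply LinearMap.ext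
    intro v
    rw [hmpow, hζ.pow_eq_one]
    funext i
    rw [one_mul]
    rfl
  let m' : (Fin b → AdjoinRoot f) ≃ₗ[F] (Fin b → AdjoinRoot f) :=
    LinearEquiv.ofLinearMap m (m ^ (p - 1))
      (by rw [← Module.End.mul_eq_comp, ← pow_succ', Nat.sub_add_cancel hp.out.one_le, hmp]; rfl)
      (by rw [← Module.End.mul_eq_comp, ← pow_succ, Nat.sub_add_cancel hp.out.one_le, hmp]; rfl)
  have hconj : ∀ k : ℕ, ∀ u : U, (((e.symm.trans m').trans e : U ≃ₗ[F] U) ^ k) u = e ((m ^ k) (e.symm u)) := by
    intro k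
    induction k with
    | zero => intro u; simp
    | succ k ih =>
      intro u
      rw [pow_succ', LinearEquiv.mul_apply, ih, pow_succ', Module.End.mul_apply]
      simp only [LinearEquiv.trans_apply, LinearEquiv.symm_apply_apply]
      rfl
  refine ⟨(e.symm.trans m').trans e, ?_, ?_⟩
  · apply LinearEquiv.ext
    intro u
    rw [hconj, hmp, Module.End.one_apply, LinearEquiv.apply_symm_apply]
    rfl
  · apply LinearMap.ext
    intro u
    have h4 : ∀ k : ℕ, (((((e.symm.trans m').trans e : U ≃ₗ[F] U) : U →ₗ[F] U)) ^ k) u = e ((m ^ k) (e.symm u)) := by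
      intro k
      rw [← hconj k u]
      clear hconj
      induction k with
      | zero => rfl
      | succ k ih => rw [pow_succ', Module.End.mul_apply, ih, pow_succ', LinearEquiv.mul_apply]; rfl
    rw [aeval_eq_sum_range, LinearMap.sum_apply, LinearMap.zero_apply]
    have h5 : e ((aeval m f) (e.symm u)) = 0 := by rw [hmf, LinearMap.zero_apply, map_zero]
    rw [← h5, aeval_eq_sum_range, LinearMap.sum_apply, map_sum]
    refine Finset.sum_congr rfl fun k _ => ?_
    rw [LinearMap.smul_apply, LinearMap.smul_apply, map_smul, h4]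

end Exists

end Cfsg.Agent.H646.BR
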