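import Cfsg.Agent.H646.BR.Act
import Cfsg.Agent.H646.BR.Zeta

/-!
# Classical groups in linear type (helper646, S4891)

`ρ : G →* (V ≃ₗ[F] V)` preserves `Φ : Pol F V`, every element of `GL(T)`, `T` totally singular, is induced by `G` (Witt),
`Φ.L` is `x ↦ x ^ s`-semilinear in the second variable, `p` divides no `s |F| ^ i + 1`.  If `P` is a Sylow `p`-subgroup of
`G` and `U` is a `P`-invariant totally singular subspace of dimension divisible by `d = ord_p |F|`, then every element of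
`C_G(P)` leaves `U` invariant: `main`.
-/

set_option autoImplicit false

open Module Polynomial

namespace Cfsg.Agent.H646.BR

open Cfsg.Agent.H2.Pol

section Gen

variable {F V : Type*} [Field F] [AddCommGroup V] [Module F V] {Φ : Pol F V} {G : Type*} [Group G]
  {ρ : G →* (V ≃ₗ[F] V)}

/-- the stabilizer of `T` -/
def stab (ρ : G →* (V ≃ₗ[F] V)) (T : Submodule F V) : Subgroup G where
  carrier := {g | mv ρ g T = T}
  one_mem' := mv_one ρ T
  mul_mem' {a b} ha hb := by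
    change mv ρ (a * b) T = T
    rw [mv_mul, show mv ρ b T = T from hb, show mv ρ a T = T from ha]
  inv_mem' {a} ha := by
    change mv ρ a⁻¹ T = T
    conv_lhs => rw [← show mv ρ a T = T from ha]
    rw [← mv_mul, inv_mul_cancel, mv_one]

theorem mem_stab {T : Submodule F V} {g : G} : g ∈ stab ρ T ↔ mv ρ g T = T := Iff.rfl

/-- the restriction to `T` -/
def res (ρ : G →* (V ≃ₗ[F] V)) (T : Submodule F V) : stab ρ T →* (T ≃ₗ[F] T) where
  toFun g := LinearEquiv.ofSubmodules (ρ g.1) T T g.2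
  map_one' := by
    apply LinearEquiv.ext
    intro x
    apply Subtype.ext
    change ρ (1 : G) (x : V) = x
    rw [map_one, LinearEquiv.coe_one, id]
  map_mul' g h := by
    apply LinearEquiv.ext
    intro x
    apply Subtype.ext
    change ρ ((g.1 * h.1 : G)) (x : V) = ρ g.1 (ρ h.1 x)
    rw [map_mul, LinearEquiv.mul_apply]

theorem coe_res {T : Submodule F V} (g : stab ρ T) (x : T) : ((res ρ T g x : T) : V) = ρ g.1 x := rfl

theorem exists_conj {H : Type*} [Group H] [Finite H] {p : ℕ} [Fact p.Prime] (Q : Sylow p H) {x : H} (hx : x ^ p = 1) :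
    ∃ h : H, h * x * h⁻¹ ∈ Q := by
  have h1 : IsPGroup p (Subgroup.zpowers x) := by
    rintro ⟨y, hy⟩
    obtain ⟨k, rfl⟩ := Subgroup.mem_zpowers_iff.1 hy
    refine ⟨1, Subtype.ext ?_⟩
    change (x ^ k) ^ (p ^ 1) = 1
    rw [pow_one, ← zpow_natCast, ← zpow_mul, mul_comm, zpow_mul, zpow_natCast, hx, one_zpow]
  obtain ⟨Q', hQ'⟩ := h1.exists_le_sylow
  obtain ⟨h, hh⟩ := MulAction.exists_smul_eq H Q' Q
  refine ⟨h, ?_⟩
  rw [← hh]
  have h2 : h * x * h⁻¹ = MulAut.conj h x := rfl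
  rw [h2]
  exact Subgroup.smul_mem_pointwise_smul x (MulAut.conj h) (Q' : Subgroup H) (hQ' (Subgroup.mem_zpowers x))

/-- powers of a conjugate and polynomials -/
theorem aeval_conj {U : Type*} [AddCommGroup U] [Module F U] (a z : U ≃ₗ[F] U) {f : F[X]}
    (hz : aeval (z : U →ₗ[F] U) f = 0) : aeval ((a * z * a⁻¹ : U ≃ₗ[F] U) : U →ₗ[F] U) f = 0 := by
  have hpow : ∀ (k : ℕ) (u : U), (((a * z * a⁻¹ : U ≃ₗ[F] U) : U →ₗ[F] U) ^ k) (a u) = a (((z : U →ₗ[F] U) ^ k) u) := by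
    intro k
    induction k with
    | zero => intro u; rfl
    | succ k ih =>
      intro u
      rw [pow_succ', Module.End.mul_apply, ih, pow_succ', Module.End.mul_apply]
      change (a * z * a⁻¹) (a (((z : U →ₗ[F] U) ^ k) u)) = a (z (((z : U →ₗ[F] U) ^ k) u))
      rw [LinearEquiv.mul_apply, LinearEquiv.mul_apply]
      congr 2
      exact a.symm_apply_apply _
  apply LinearMap.ext
  intro u
  obtain ⟨w, rfl⟩ := a.surjective u
  have h1 : a ((aeval (z : U →ₗ[F] U) f) w) = 0 := by rw [hz, LinearMap.zero_apply, map_zero]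
  rw [LinearMap.zero_apply, ← h1, aeval_eq_sum_range, LinearMap.sum_apply, aeval_eq_sum_range, LinearMap.sum_apply,
    map_sum]
  refine Finset.sum_congr rfl fun k _ => ?_
  rw [LinearMap.smul_apply, LinearMap.smul_apply, map_smul, hpow]

/-- no fixed points -/
theorem eq_zero_of_fixed {p : ℕ} [hp : Fact p.Prime] (hpF : (p : F) ≠ 0) {f : F[X]} (hfc : f ∣ cyclotomic p F)
    {U : Type*} [AddCommGroup U] [Module F U] {z : U →ₗ[F] U} (hz : aeval z f = 0) {x : U} (hx : z x = x) : x = 0 := by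
  have hpow : ∀ k : ℕ, (z ^ k) x = x := by
    intro k
    induction k with
    | zero => rfl
    | succ k ih => rw [pow_succ', Module.End.mul_apply, ih, hx]
  have h1 : (aeval z f) x = f.eval 1 • x := by
    rw [aeval_eq_sum_range, LinearMap.sum_apply, eval_eq_sum_range, Finset.sum_smul]
    refine Finset.sum_congr rfl fun k _ => ?_
    rw [LinearMap.smul_apply, hpow, one_pow, mul_one]
  rw [hz, LinearMap.zero_apply] at h1
  have h2 : f.eval 1 ≠ 0 := by
    intro h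
    apply hpF
    obtain ⟨g, hg⟩ := hfc
    have h3 := congrArg (Polynomial.eval 1) hg
    rw [eval_one_cyclotomic_prime, eval_mul, h, zero_mul] at h3
    exact h3
  exact (smul_eq_zero.1 h1.symm).resolve_left h2

end Gen

section Maschke

variable {F V : Type*} [Field F] [AddCommGroup V] [Module F V] {G : Type*} [Group G] [Finite G] {ρ : G →* (V ≃ₗ[F] V)}

/-- an invariant complement -/
theorem exists_compl (h0 : (Nat.card G : F) ≠ 0) {U T : Submodule F V} (hU : ∀ g, mv ρ g U = U)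
    (hT : ∀ g, mv ρ g T = T) (hUT : U ≤ T) : ∃ C : Submodule F V, C ≤ T ∧ (∀ g, mv ρ g C = C) ∧ U ⊓ C = ⊥ ∧ U ⊔ C = T := by
  classical
  have := Fintype.ofFinite G
  have hmem : ∀ (g : G) {x : V}, x ∈ U → ρ g x ∈ U := fun g x hx => by
    have h1 : ρ g x ∈ mv ρ g U := mem_mv_of_mem hx
    rwa [hU g] at h1
  obtain ⟨W, hW⟩ := Submodule.exists_isCompl U
  let π : V →ₗ[F] V := U.subtype ∘ₗ (Submodule.projectionOnto U W hW)
  have hπU : ∀ x, π x ∈ U := fun x => (Submodule.projectionOnto U W hW x).2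
  have hπ1 : ∀ x ∈ U, π x = x := by
    intro x hx
    have := Submodule.projectionOnto_apply_left hW ⟨x, hx⟩
    exact congrArg Subtype.val this
  let τ : V →ₗ[F] V := (Nat.card G : F)⁻¹ • ∑ g : G, (ρ g : V →ₗ[F] V) ∘ₗ π ∘ₗ (ρ g⁻¹ : V →ₗ[F] V)
  have hτ : ∀ x, τ x = (Nat.card G : F)⁻¹ • ∑ g : G, ρ g (π (ρ g⁻¹ x)) := by
    intro x
    change ((Nat.card G : F)⁻¹ • ∑ g : G, (ρ g : V →ₗ[F] V) ∘ₗ π ∘ₗ (ρ g⁻¹ : V →ₗ[F] V)) x = _
    rw [LinearMap.smul_apply, LinearMap.sum_apply]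
    rfl
  have hτU : ∀ x, τ x ∈ U := by
    intro x
    rw [hτ]
    exact U.smul_mem _ (U.sum_mem fun g _ => hmem g (hπU _))
  have hτ1 : ∀ x ∈ U, τ x = x := by
    intro x hx
    have h1 : ∀ g ∈ (Finset.univ : Finset G), ρ g (π (ρ g⁻¹ x)) = x := by
      intro g _
      rw [hπ1 _ (hmem g⁻¹ hx), ← LinearEquiv.mul_apply, ← map_mul, mul_inv_cancel, map_one, LinearEquiv.coe_one, id]
    rw [hτ, Finset.sum_congr rfl h1, Finset.sum_const, Finset.card_univ, ← Nat.card_eq_fintype_card,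
      ← Nat.cast_smul_eq_nsmul F, smul_smul, inv_mul_cancel₀ h0, one_smul]
  have hτg : ∀ (a : G) (x : V), τ (ρ a x) = ρ a (τ x) := by
    intro a x
    rw [hτ, hτ, map_smul, map_sum]
    congr 1
    refine Fintype.sum_equiv (Equiv.mulLeft a⁻¹) _ _ fun g => ?_
    rw [Equiv.coe_mulLeft, ← LinearEquiv.mul_apply, ← map_mul, ← LinearEquiv.mul_apply (ρ a), ← map_mul, mul_inv_cancel_left,
      mul_inv_rev, inv_inv]
  refine ⟨LinearMap.ker τ ⊓ T, inf_le_right, ?_, ?_, ?_⟩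
  · intro g
    ext x
    rw [mem_mv]
    constructor
    · rintro ⟨h1, h2⟩
      rw [SetLike.mem_coe, LinearMap.mem_ker] at h1
      refine ⟨?_, ?_⟩
      · rw [SetLike.mem_coe, LinearMap.mem_ker]
        rw [hτg] at h1
        exact (map_eq_zero_iff _ (ρ g⁻¹).injective).1 h1
      · rw [← hT g]
        exact mem_mv.2 h2
    · rintro ⟨h1, h2⟩
      rw [SetLike.mem_coe, LinearMap.mem_ker] at h1
      refine ⟨?_, ?_⟩
      · rw [SetLike.mem_coe, LinearMap.mem_ker, hτg, h1, map_zero]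
      · have h2' := h2
        rw [SetLike.mem_coe, ← hT g] at h2'
        exact mem_mv.1 h2'
  · rw [eq_bot_iff]
    rintro x ⟨hx1, hx2, -⟩
    rw [SetLike.mem_coe, LinearMap.mem_ker] at hx2
    rw [Submodule.mem_bot, ← hτ1 x hx1, hx2]
  · apply le_antisymm (sup_le hUT inf_le_right)
    intro x hx
    rw [show x = τ x + (x - τ x) by abel]
    refine Submodule.add_mem_sup (hτU x) ⟨?_, T.sub_mem hx (hUT (hτU x))⟩
    rw [SetLike.mem_coe, LinearMap.mem_ker, map_sub, hτ1 _ (hτU x), sub_self]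

end Maschke

section Main

variable {F V : Type*} [Field F] [Fintype F] [AddCommGroup V] [Module F V] [FiniteDimensional F V] {Φ : Pol F V}
  {G : Type*} [Group G] [Finite G] {ρ : G →* (V ≃ₗ[F] V)} {p : ℕ} [hp : Fact p.Prime]

/-- the Witt property: `GL(T)` is induced by `G` for all totally singular `T` -/
def WittTS (Φ : Pol F V) (ρ : G →* (V ≃ₗ[F] V)) : Prop :=
  ∀ T : Submodule F V, Φ.TI T → ∀ g : T ≃ₗ[F] T, ∃ a : G, ∀ x : T, ρ a (x : V) = g x

omit [Fintype F] [FiniteDimensional F V] [Finite G] in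
theorem res_surjective (hW : WittTS Φ ρ) {T : Submodule F V} (hT : Φ.TI T) : Function.Surjective (res ρ T) := by
  intro g
  obtain ⟨a, ha⟩ := hW T hT g
  have h1 : mv ρ a T = T := by
    apply le_antisymm
    · rintro _ ⟨x, hx, rfl⟩
      have h2 : ρ a x = g ⟨x, hx⟩ := ha ⟨x, hx⟩
      change ρ a x ∈ T
      rw [h2]
      exact (g ⟨x, hx⟩).2
    · intro x hx
      have h2 : ρ a (g.symm ⟨x, hx⟩ : T) = g (g.symm ⟨x, hx⟩) := ha _
      rw [LinearEquiv.apply_symm_apply] at h2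
      exact ⟨(g.symm ⟨x, hx⟩ : T), (g.symm ⟨x, hx⟩).2, h2⟩
  refine ⟨⟨a, h1⟩, ?_⟩
  apply LinearEquiv.ext
  intro x
  exact Subtype.ext (ha x)

instance finite_gl (T : Submodule F V) : Finite (T ≃ₗ[F] T) := by
  have : Finite T := Module.finite_of_finite F
  exact Finite.of_injective (fun g : T ≃ₗ[F] T => (g : T → T)) DFunLike.coe_injective

/-- the image of a Sylow subgroup in `GL(T)` -/
noncomputable def sylT (hW : WittTS Φ ρ) (P : Sylow p G) {T : Submodule F V} (hT : Φ.TI T) (hPT : ∀ g ∈ P, mv ρ g T = T) :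
    Sylow p (T ≃ₗ[F] T) :=
  (P.subtype (show (P : Subgroup G) ≤ stab ρ T from hPT)).mapSurjective (res_surjective hW hT)

omit [Fintype F] [FiniteDimensional F V] in
theorem exists_of_mem_sylT (hW : WittTS Φ ρ) (P : Sylow p G) {T : Submodule F V} (hT : Φ.TI T)
    (hPT : ∀ g ∈ P, mv ρ g T = T) {y : T ≃ₗ[F] T} (hy : y ∈ sylT hW P hT hPT) : ∃ g ∈ P, ∀ x : T, ρ g (x : V) = y x := by
  obtain ⟨g, hg, rfl⟩ := hy
  exact ⟨g.1, hg, fun x => rfl⟩

omit [Fintype F] [FiniteDimensional F V] in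
theorem mem_sylT_of_mem (hW : WittTS Φ ρ) (P : Sylow p G) {T : Submodule F V} (hT : Φ.TI T)
    (hPT : ∀ g ∈ P, mv ρ g T = T) {g : G} (hg : g ∈ P) : res ρ T ⟨g, hPT g hg⟩ ∈ sylT hW P hT hPT :=
  ⟨⟨g, hPT g hg⟩, hg, rfl⟩

variable {f : F[X]}

omit [Fintype F] [FiniteDimensional F V] [Finite G] in
theorem mv_comm {c g : G} (h : g * c = c * g) {U : Submodule F V} (hU : mv ρ g U = U) : mv ρ g (mv ρ c U) = mv ρ c U := by
  rw [← mv_mul, h, mv_mul, hU]

/-- `U ⊥ c U` for `c` in the centralizer of `P` -/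
theorem orth_mv (hΦ : Pres Φ ρ) (hW : WittTS Φ ρ) {r : ℕ} [hr : Fact r.Prime] [CharP F r] (hpF : p.Coprime (Fintype.card F))
    {s j : ℕ} (hs : s = r ^ j) (hsp : ∀ i : ℕ, ¬ p ∣ s * Fintype.card F ^ i + 1)
    (hLa : ∀ x y y' : V, Φ.L (y + y') x = Φ.L y x + Φ.L y' x) (hLs : ∀ (a : F) (x y : V), Φ.L (a • y) x = a ^ s * Φ.L y x)
    (hf : Irreducible f) (hfc : f ∣ cyclotomic p F) (P : Sylow p G) {U : Submodule F V} (hU : Φ.TI U)
    (hPU : ∀ g ∈ P, mv ρ g U = U) (hd : f.natDegree ∣ finrank F U) {c : G}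
    (hc : c ∈ Subgroup.centralizer ((P : Subgroup G) : Set G)) : Φ.Orth U (mv ρ c U) := by
  obtain ⟨z, hzp, hz⟩ := exists_z (U := U) hf hfc hpF hd
  obtain ⟨a, ha⟩ := exists_conj (sylT hW P hU hPU) hzp
  obtain ⟨g, hg, hgz⟩ := exists_of_mem_sylT hW P hU hPU ha
  have hcg : g * c = c * g := Subgroup.mem_centralizer_iff.1 hc g hg
  rintro x hx _ ⟨y, hy, rfl⟩
  have key := form_zero (U := U) hf hfc hpF hs hsp ((a * z * a⁻¹ : U ≃ₗ[F] U) : U →ₗ[F] U) (aeval_conj a z hz)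
    (fun x y => Φ.L (ρ c (y : V)) (x : V))
    (fun x x' y => map_add _ _ _) (fun a x y => map_smul _ _ _)
    (fun x y y' => by
      change Φ.L (ρ c ((y : V) + y')) (x : V) = _
      rw [map_add, hLa])
    (fun a x y => by
      change Φ.L (ρ c (a • (y : V))) (x : V) = _
      rw [map_smul, hLs])
    (fun x y => by
      change Φ.L (ρ c (((a * z * a⁻¹ : U ≃ₗ[F] U) y : U) : V)) (((a * z * a⁻¹ : U ≃ₗ[F] U) x : U) : V) = _
      rw [← hgz, ← hgz, ← LinearEquiv.mul_apply, ← map_mul, ← hcg, map_mul, LinearEquiv.mul_apply, (hΦ g).1])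
  exact key ⟨x, hx⟩ ⟨y, hy⟩

/-- the sum of the `c U` -/
def span (ρ : G →* (V ≃ₗ[F] V)) (P : Subgroup G) (U : Submodule F V) : Submodule F V :=
  ⨆ c : Subgroup.centralizer (P : Set G), mv ρ c.1 U

omit [Fintype F] [FiniteDimensional F V] [Finite G] in
theorem le_span (P : Subgroup G) (U : Submodule F V) {c : G} (hc : c ∈ Subgroup.centralizer (P : Set G)) :
    mv ρ c U ≤ span ρ P U := le_iSup (fun c : Subgroup.centralizer (P : Set G) => mv ρ c.1 U) ⟨c, hc⟩

omit [Fintype F] [FiniteDimensional F V] [Finite G] in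
theorem mv_span_le {P : Subgroup G} {U : Submodule F V} {g : G}
    (hg : ∀ c ∈ Subgroup.centralizer (P : Set G), ∃ c' ∈ Subgroup.centralizer (P : Set G), mv ρ g (mv ρ c U) ≤ mv ρ c' U) :
    mv ρ g (span ρ P U) ≤ span ρ P U := by
  rw [mv, span, Submodule.map_iSup]
  refine iSup_le fun c => ?_
  obtain ⟨c', hc', h⟩ := hg c.1 c.2
  exact h.trans (le_span P U hc')

omit [Fintype F] [FiniteDimensional F V] [Finite G] in
theorem mv_eq_of_le [FiniteDimensional F V] {T : Submodule F V} {g : G} (h : mv ρ g T ≤ T) : mv ρ g T = T :=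
  Submodule.eq_of_le_of_finrank_eq h (finrank_mv ρ g T)

omit [Fintype F] [FiniteDimensional F V] [Finite G] in
theorem TI_span (hΦ : Pres Φ ρ) {P : Subgroup G} {U : Submodule F V} (hU : Φ.TI U)
    (hc : ∀ c ∈ Subgroup.centralizer (P : Set G), Φ.Orth U (mv ρ c U)) : Φ.TI (span ρ P U) := by
  have h1 : ∀ c c' : Subgroup.centralizer (P : Set G), Φ.Orth (mv ρ c.1 U) (mv ρ c'.1 U) := by
    intro c c'
    rintro _ ⟨x, hx, rfl⟩ _ ⟨y, hy, rfl⟩
    have h2 := hc (c.1⁻¹ * c'.1) (mul_mem (inv_mem c.2) c'.2) x hx (ρ (c.1⁻¹ * c'.1) y) (mem_mv_of_mem hy)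
    rw [← (hΦ c.1).1, ← LinearEquiv.mul_apply, ← map_mul, mul_inv_cancel_left] at h2
    exact h2
  have h2 : Φ.Orth (span ρ P U) (span ρ P U) := by
    rw [Pol.orth_iff_le_perp]
    refine iSup_le fun c => ?_
    rw [← Pol.orth_iff_le_perp, Pol.orth_comm, Pol.orth_iff_le_perp]
    refine iSup_le fun c' => ?_
    rw [← Pol.orth_iff_le_perp]
    exact h1 c' c
  refine ⟨fun x hx => ?_, h2⟩
  have h3 : Φ.sing x ∧ x ∈ span ρ P U := by
    refine Submodule.iSup_induction (fun c : Subgroup.centralizer (P : Set G) => mv ρ c.1 U)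
      (motive := fun x => Φ.sing x ∧ x ∈ span ρ P U) hx ?_ ?_ ?_
    · intro c x hx
      exact ⟨(hΦ.TI c.1 hU).1 x hx, le_span P U c.2 hx⟩
    · exact ⟨Φ.sing_zero, zero_mem _⟩
    · rintro x y ⟨hx, hx'⟩ ⟨hy, hy'⟩
      exact ⟨Φ.sing_add x y hx hy (h2 x hx' y hy'), add_mem hx' hy'⟩
  exact h3.1

/-- a `p`-element trivial on a complement: an element of the Sylow subgroup `Q` of `GL(T)` leaving `U` and `C` invariant which
is trivial on `C` and is annihilated by `f` on `U` -/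
theorem exists_y {T : Type*} [AddCommGroup T] [Module F T] [FiniteDimensional F T] [Finite (T ≃ₗ[F] T)]
    (hpF : p.Coprime (Fintype.card F)) (hf : Irreducible f) (hfc : f ∣ cyclotomic p F) (Q : Sylow p (T ≃ₗ[F] T))
    {U C : Submodule F T} (hUC : IsCompl U C) (hQU : ∀ g ∈ Q, ∀ x ∈ U, g x ∈ U) (hQC : ∀ g ∈ Q, ∀ x ∈ C, g x ∈ C)
    (hd : f.natDegree ∣ finrank F U) : ∃ y ∈ Q, (∀ x ∈ C, y x = x) ∧ (∀ x, y x - x ∈ U) ∧ ∀ x ∈ U, y x = x → x = 0 := by
  have hp0 : (p : F) ≠ 0 := by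
    obtain ⟨r, hr⟩ := CharP.exists F
    obtain ⟨k, hrp, hk⟩ := FiniteField.card F r
    intro h
    have h1 : r ∣ p := (CharP.cast_eq_zero_iff F r p).1 h
    have h2 : r ∣ Nat.gcd p (Fintype.card F) := Nat.dvd_gcd h1 (by rw [hk]; exact dvd_pow_self r k.ne_zero)
    rw [hpF] at h2
    exact hrp.one_lt.ne' (Nat.dvd_one.1 h2)
  obtain ⟨z, hzp, hz⟩ := exists_z (U := U) hf hfc hpF hd
  let e : (U × C) ≃ₗ[F] T := Submodule.prodEquivOfIsCompl U C hUC
  let zt : T ≃ₗ[F] T := (e.symm.trans (LinearEquiv.prodCongr z (LinearEquiv.refl F C))).trans e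
  have hztU : ∀ x : U, zt (x : T) = z x := by
    intro x
    change e ((LinearEquiv.prodCongr z (LinearEquiv.refl F C)) (e.symm (x : T))) = z x
    have h1 : e.symm (x : T) = (x, 0) := Submodule.prodEquivOfIsCompl_symm_apply_left _ _ hUC x
    rw [h1]
    change ((z x : U) : T) + ((0 : C) : T) = _
    rw [Submodule.coe_zero, add_zero]
  have hztC : ∀ x ∈ C, zt x = x := by
    intro x hx
    change e ((LinearEquiv.prodCongr z (LinearEquiv.refl F C)) (e.symm x)) = x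
    have h1 : e.symm ((⟨x, hx⟩ : C) : T) = (0, ⟨x, hx⟩) := Submodule.prodEquivOfIsCompl_symm_apply_right _ _ hUC ⟨x, hx⟩
    change e.symm x = _ at h1
    rw [h1]
    change ((z 0 : U) : T) + x = x
    rw [map_zero, Submodule.coe_zero, zero_add]
  -- the group preserving `U` and `C`
  let L : Subgroup (T ≃ₗ[F] T) :=
    { carrier := {g | (∀ x, x ∈ U ↔ g x ∈ U) ∧ ∀ x, x ∈ C ↔ g x ∈ C}
      one_mem' := ⟨fun x => Iff.rfl, fun x => Iff.rfl⟩
      mul_mem' := fun {a b} ha hb => ⟨fun x => (hb.1 x).trans (ha.1 _), fun x => (hb.2 x).trans (ha.2 _)⟩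
      inv_mem' := fun {a} ha => ⟨fun x => by
          rw [ha.1 (a⁻¹ x)]
          rw [show a (a⁻¹ x) = x from a.apply_symm_apply x], fun x => by
          rw [ha.2 (a⁻¹ x)]
          rw [show a (a⁻¹ x) = x from a.apply_symm_apply x]⟩ }
  have hinv : ∀ {g : T ≃ₗ[F] T} {W : Submodule F T}, (∀ x ∈ W, g x ∈ W) → ∀ x, x ∈ W ↔ g x ∈ W := by
    intro g W hg x
    refine ⟨hg x, fun h => ?_⟩
    have h1 : W.map (g : T →ₗ[F] T) = W :=
      Submodule.eq_of_le_of_finrank_eq (by rintro _ ⟨w, hw, rfl⟩; exact hg w hw) (LinearEquiv.finrank_map_eq g W)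
    rw [← h1] at h
    obtain ⟨w, hw, hwx⟩ := h
    have h2 : w = x := g.injective hwx
    rw [← h2]
    exact hw
  have hQL : (Q : Subgroup (T ≃ₗ[F] T)) ≤ L := fun g hg => ⟨hinv (hQU g hg), hinv (hQC g hg)⟩
  have hztL : zt ∈ L := ⟨hinv (fun x hx => by rw [hztU ⟨x, hx⟩]; exact (z ⟨x, hx⟩).2),
    hinv (fun x hx => by rw [hztC x hx]; exact hx)⟩
  have hztp : zt ^ p = 1 := by
    apply LinearEquiv.ext
    intro x
    have hpowU : ∀ (k : ℕ) (u : U), (zt ^ k) (u : T) = ((z ^ k) u : U) := by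
      intro k
      induction k with
      | zero => intro u; rfl
      | succ k ih =>
        intro u
        rw [pow_succ', LinearEquiv.mul_apply, ih, hztU, pow_succ', LinearEquiv.mul_apply]
    have hpowC : ∀ (k : ℕ), ∀ c ∈ C, (zt ^ k) c = c := by
      intro k
      induction k with
      | zero => intro c _; rfl
      | succ k ih =>
        intro c hc
        rw [pow_succ', LinearEquiv.mul_apply, ih c hc, hztC c hc]
    obtain ⟨u, hu, c, hc, rfl⟩ := Submodule.mem_sup.1 (show x ∈ U ⊔ C by rw [hUC.sup_eq_top]; trivial)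
    rw [map_add, hpowC p c hc, hpowU p ⟨u, hu⟩, hzp]
    rfl
  obtain ⟨l, hl⟩ := exists_conj (Q.subtype hQL) (x := (⟨zt, hztL⟩ : L)) (Subtype.ext hztp)
  have hy : l.1 * zt * l.1⁻¹ ∈ Q := hl
  refine ⟨l.1 * zt * l.1⁻¹, hy, ?_, ?_, ?_⟩
  · intro x hx
    change l.1 (zt (l.1⁻¹ x)) = x
    rw [hztC _ (((inv_mem l.2).2 x).1 hx)]
    exact l.1.apply_symm_apply x
  · intro x
    have h1 : ∀ w, zt w - w ∈ U := by
      intro w
      obtain ⟨u, hu, c, hc, rfl⟩ := Submodule.mem_sup.1 (show w ∈ U ⊔ C by rw [hUC.sup_eq_top]; trivial)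
      rw [map_add, hztC c hc, hztU ⟨u, hu⟩]
      rw [show ((z ⟨u, hu⟩ : U) : T) + c - (u + c) = (z ⟨u, hu⟩ : U) - u by abel]
      exact U.sub_mem (z ⟨u, hu⟩).2 hu
    have h2 : (l.1 * zt * l.1⁻¹) x - x = l.1 (zt (l.1⁻¹ x) - l.1⁻¹ x) := by
      rw [map_sub]
      change l.1 (zt (l.1⁻¹ x)) - x = _
      rw [show l.1 (l.1⁻¹ x) = x from l.1.apply_symm_apply x]
    rw [h2]
    exact (l.2.1 _).1 (h1 _)
  · intro x hx hyx
    have h1 : zt (l.1⁻¹ x) = l.1⁻¹ x := by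
      have h2 : l.1 (zt (l.1⁻¹ x)) = x := hyx
      apply l.1.injective
      rw [h2]
      exact (l.1.apply_symm_apply x).symm
    have h3 : l.1⁻¹ x ∈ U := ((inv_mem l.2).1 x).1 hx
    have h4 : (z : U →ₗ[F] U) ⟨l.1⁻¹ x, h3⟩ = ⟨l.1⁻¹ x, h3⟩ := by
      apply Subtype.ext
      exact (hztU ⟨l.1⁻¹ x, h3⟩).symm.trans h1
    have h5 := eq_zero_of_fixed hp0 hfc hz h4
    have h6 : l.1⁻¹ x = 0 := congrArg Subtype.val h5
    exact (map_eq_zero_iff _ (l.1⁻¹).injective).1 h6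

/-- **linear type**: the centralizer of a Sylow subgroup leaves the invariant totally singular subspaces of dimension
divisible by `d` invariant -/
theorem main (hΦ : Pres Φ ρ) (hW : WittTS Φ ρ) {r : ℕ} [hr : Fact r.Prime] [CharP F r] (hpF : p.Coprime (Fintype.card F))
    {s j : ℕ} (hs : s = r ^ j) (hsp : ∀ i : ℕ, ¬ p ∣ s * Fintype.card F ^ i + 1)
    (hLa : ∀ x y y' : V, Φ.L (y + y') x = Φ.L y x + Φ.L y' x) (hLs : ∀ (a : F) (x y : V), Φ.L (a • y) x = a ^ s * Φ.L y x)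
    (hf : Irreducible f) (hfc : f ∣ cyclotomic p F) (P : Sylow p G) {U : Submodule F V} (hU : Φ.TI U)
    (hPU : ∀ g ∈ P, mv ρ g U = U) (hd : f.natDegree ∣ finrank F U) {c : G}
    (hc : c ∈ Subgroup.centralizer ((P : Subgroup G) : Set G)) : mv ρ c U = U := by
  have hp0 : (Nat.card (P : Subgroup G) : F) ≠ 0 := by
    obtain ⟨k, hk⟩ := IsPGroup.iff_card.1 P.2
    rw [hk, Nat.cast_pow]
    apply pow_ne_zero
    obtain ⟨r, hr⟩ := CharP.exists F
    obtain ⟨k, hrp, hk⟩ := FiniteField.card F r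
    intro h
    have h1 : r ∣ p := (CharP.cast_eq_zero_iff F r p).1 h
    have h2 : r ∣ Nat.gcd p (Fintype.card F) := Nat.dvd_gcd h1 (by rw [hk]; exact dvd_pow_self r k.ne_zero)
    rw [hpF] at h2
    exact hrp.one_lt.ne' (Nat.dvd_one.1 h2)
  set T := span ρ (P : Subgroup G) U with hTd
  have hT : Φ.TI T := TI_span hΦ hU fun c hc => orth_mv hΦ hW hpF hs hsp hLa hLs hf hfc P hU hPU hd hc
  have hUT : U ≤ T := by
    have h1 := le_span (ρ := ρ) (P : Subgroup G) U (one_mem (Subgroup.centralizer ((P : Subgroup G) : Set G)))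
    rwa [mv_one] at h1
  have hPT : ∀ g ∈ P, mv ρ g T = T := by
    intro g hg
    apply mv_eq_of_le
    refine mv_span_le fun c hc => ⟨c, hc, ?_⟩
    rw [mv_comm (Subgroup.mem_centralizer_iff.1 hc g hg) (hPU g hg)]
  have hcT : mv ρ c T ≤ T := by
    refine mv_span_le fun c' hc' => ⟨c * c', mul_mem hc hc', ?_⟩
    rw [mv_mul]
  -- the complement
  obtain ⟨C, hCT, hPC, hUC1, hUC2⟩ := exists_compl (ρ := ρ.comp (P : Subgroup G).subtype) (F := F) hp0
    (U := U) (T := T) (fun g => hPU g.1 g.2) (fun g => hPT g.1 g.2) hUT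
  have hUC : IsCompl (U.comap T.subtype) (C.comap T.subtype) := by
    constructor
    · rw [disjoint_iff, eq_bot_iff]
      rintro x ⟨hx1, hx2⟩
      rw [Submodule.mem_bot]
      apply Subtype.ext
      have h1 : (x : V) ∈ U ⊓ C := ⟨hx1, hx2⟩
      rw [hUC1] at h1
      exact (Submodule.mem_bot F).1 h1
    · rw [codisjoint_iff, eq_top_iff]
      rintro x -
      obtain ⟨u, hu, w, hw, huw⟩ := Submodule.mem_sup.1 (show (x : V) ∈ U ⊔ C by rw [hUC2]; exact x.2)
      rw [show x = (⟨u, hUT hu⟩ : T) + ⟨w, hCT hw⟩ from Subtype.ext huw.symm]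
      exact Submodule.add_mem_sup hu hw
  have hfr : finrank F (U.comap T.subtype) = finrank F U := (Submodule.comapSubtypeEquivOfLe hUT).finrank_eq
  obtain ⟨y, hyQ, hy1, hy2, hy3⟩ := exists_y hpF hf hfc (sylT hW P hT hPT) hUC
    (by
      intro g hg x hx
      obtain ⟨a, ha, hax⟩ := exists_of_mem_sylT hW P hT hPT hg
      change ((g x : T) : V) ∈ U
      rw [← hax, ← hPU a ha]
      exact mem_mv_of_mem hx)
    (by
      intro g hg x hx
      obtain ⟨a, ha, hax⟩ := exists_of_mem_sylT hW P hT hPT hg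
      change ((g x : T) : V) ∈ C
      have h1 : mv ρ a C = C := hPC ⟨a, ha⟩
      rw [← hax, ← h1]
      exact mem_mv_of_mem hx)
    (by rw [hfr]; exact hd)
  obtain ⟨g, hg, hgy⟩ := exists_of_mem_sylT hW P hT hPT hyQ
  have hcg : g * c = c * g := Subgroup.mem_centralizer_iff.1 hc g hg
  -- `U = (y - 1) T`
  have hsurj : ∀ x ∈ U, ∃ w ∈ T, ρ g w - w = x := by
    intro x hx
    let τ : (U.comap T.subtype) →ₗ[F] (U.comap T.subtype) :=
      ((y : T →ₗ[F] T) - LinearMap.id).restrict (fun w _ => hy2 w)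
    have hτ : Function.Injective τ := by
      rw [injective_iff_map_eq_zero]
      intro w hw
      have h1 : y w.1 - w.1 = 0 := congrArg Subtype.val hw
      exact Subtype.ext (hy3 w.1 w.2 (sub_eq_zero.1 h1))
    obtain ⟨w, hw⟩ := (LinearMap.injective_iff_surjective.1 hτ) ⟨⟨x, hUT hx⟩, hx⟩
    have h1 : y w.1 - w.1 = ⟨x, hUT hx⟩ := congrArg Subtype.val hw
    refine ⟨w.1, w.1.2, ?_⟩
    rw [hgy]
    exact congrArg Subtype.val h1
  apply mv_eq_of_le
  rintro _ ⟨x, hx, rfl⟩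
  obtain ⟨w, hw, rfl⟩ := hsurj x hx
  have h1 : ρ c w ∈ T := hcT (mem_mv_of_mem hw)
  change ρ c (ρ g w - w) ∈ U
  rw [map_sub, ← LinearEquiv.mul_apply, ← map_mul, ← hcg, map_mul, LinearEquiv.mul_apply]
  have h2 := hy2 ⟨ρ c w, h1⟩
  have h3 : ((y ⟨ρ c w, h1⟩ : T) : V) = ρ g (ρ c w) := (hgy _).symm
  change ((y ⟨ρ c w, h1⟩ : T) : V) - ρ c w ∈ U at h2
  rwa [h3] at h2

end Main

end Cfsg.Agent.H646.BR
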