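import Cfsg.Agent.H646.BR.UDefs
import Cfsg.Agent.H646.BR.CntGen
import Cfsg.Agent.H77.Witt

/-!
# Unitary groups in linear type: fixed points of the Sylow subgroups (helper646, S4891)

`cnt_modEq` : `-q` has order `2 d` modulo `p` and `d ∣ k` : the number of orbits of `C(P)` on the `P`-fixed points of
`uX hF n k` is congruent to the number of points of `uX hF n k`.
-/

set_option autoImplicit false

open Module Polynomial

namespace Cfsg.Agent.H646.BR.U

open Cfsg Matrix
open Cfsg.Agent.H2.Pol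
open Cfsg.Agent.LieClassical.HermBasic Cfsg.Agent.LieClassical.HermSiegel Cfsg.Agent.LieClassical.SUBasic
open Cfsg.Agent.LieClassical
open Cfsg.Agent.ClassicalGeometry.PSUAutBasic Cfsg.Agent.ClassicalGeometry.PSUAutCount
open Cfsg.Agent.H77.Witt
open Cfsg.Agent.H145.BR

variable {F : Type*} [Field F] [Fintype F] {n q : ℕ}

/-- an isometry as an element of `GU` -/
theorem exists_gu_of_isom (hF : Fintype.card F = q ^ 2) (e : (Fin n → F) →ₗ[F] (Fin n → F))
    (he : ∀ u v, hermForm n F q (e u) (e v) = hermForm n F q u v) : ∃ A : GU n F q, ∀ v, guL n F q A v = e v := by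
  have hM : ∀ v, (LinearMap.toMatrix' e) *ᵥ v = e v := fun v => by rw [LinearMap.toMatrix'_mulVec]
  refine ⟨GUOrder.mkGU hF (LinearMap.toMatrix' e) fun u v => by rw [hM, hM, he], fun v => ?_⟩
  exact hM v

/-- Witt's theorem for `GU` -/
theorem exists_gu_ext (hF : Fintype.card F = q ^ 2) (X : Submodule F (Fin n → F)) (f : X →ₗ[F] (Fin n → F))
    (hf : Function.Injective f) (h : ∀ x y : X, hermForm n F q (f x) (f y) = hermForm n F q (x : Fin n → F) (y : Fin n → F)) :
    ∃ A : GU n F q, ∀ x : X, guL n F q A (x : Fin n → F) = f x := by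
  obtain ⟨g, hg, hgf⟩ := ClassicalGeometry.HermWitt.exists_extension _ (formB hF n) (conj_ne hF)
    (fun a => pow_q_pow_q hF a) (formB_symm hF) (formB_sep hF) X f hf
    (fun x x' => by rw [formB_apply, formB_apply]; exact h x' x)
  obtain ⟨A, hA⟩ := exists_gu_of_isom hF (g : (Fin n → F) →ₗ[F] (Fin n → F)) (fun u v => by
    have := hg v u
    rwa [formB_apply, formB_apply] at this)
  exact ⟨A, fun x => (hA x).trans (hgf x)⟩

theorem wittTS_gu (hF : Fintype.card F = q ^ 2) : WittTS (hpol hF n) (guL n F q) := by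
  intro T hT g
  have hT' := (TI_iff hF).1 hT
  obtain ⟨A, hA⟩ := exists_gu_ext hF T (T.subtype ∘ₗ (g : T →ₗ[F] T)) (by
      intro x y hxy
      exact g.injective (Subtype.ext hxy))
    (fun x y => by
      rw [hT' x x.2 y y.2]
      exact hT' (g x) (g x).2 (g y) (g y).2)
  exact ⟨A, hA⟩

/-- `SU → GU` -/
noncomputable def suGU (hF : Fintype.card F = q ^ 2) (n : ℕ) : SU n F q →* GU n F q where
  toFun g := GUOrder.mkGU hF (mat g) (herm_act g)
  map_one' := gm_inj rfl
  map_mul' g h := gm_inj (mat_mul g h)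

theorem gm_suGU (hF : Fintype.card F = q ^ 2) (g : SU n F q) : gm (suGU hF n g) = mat g := rfl

theorem suGU_injective (hF : Fintype.card F = q ^ 2) : Function.Injective (suGU hF n) := fun g h hgh =>
  mat_injective (by rw [← gm_suGU hF g, hgh, gm_suGU])

theorem guL_suGU (hF : Fintype.card F = q ^ 2) (g : SU n F q) : guL n F q (suGU hF n g) = suL n F q g :=
  LinearEquiv.ext fun _ => rfl

theorem mv_suGU (hF : Fintype.card F = q ^ 2) (g : SU n F q) (U : Submodule F (Fin n → F)) :
    mv (guL n F q) (suGU hF n g) U = mv (suL n F q) g U := by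
  rw [mv, mv, guL_suGU]

instance finite_su : Finite (SU n F q) := inferInstance

instance finite_gu : Finite (GU n F q) := GUOrder.finite_GU n

variable {p : ℕ} [hp : Fact p.Prime]

theorem index_range_suGU (hF : Fintype.card F = q ^ 2) (hn : 1 ≤ n) : (suGU (F := F) hF n).range.index = q + 1 := by
  have h3 : Nat.card (suGU (F := F) hF n).range = Nat.card (SU n F q) :=
    (Nat.card_congr (MonoidHom.ofInjective (suGU_injective hF)).toEquiv).symm
  have h4 := Subgroup.card_mul_index (suGU (F := F) hF n).range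
  rw [h3, GUOrder.card_GU_eq hF hn, mul_comm (q + 1)] at h4
  exact Nat.eq_of_mul_eq_mul_left Nat.card_pos h4

/-- the center of `SU` has order prime to `p` -/
theorem not_dvd_card_center (hF : Fintype.card F = q ^ 2) (hn : 3 ≤ n) (hq1 : ¬ p ∣ q + 1) :
    ¬ p ∣ Nat.card (pr n F q).ker := by
  intro h
  obtain ⟨⟨z, hzk⟩, hz⟩ := exists_prime_orderOf_dvd_card' p h
  have hzc : z ∈ Subgroup.center (SU n F q) := pr_eq_one_iff.1 hzk
  obtain ⟨a, ha0, ha1, ha⟩ := exists_scalar_of_mem_center hF hn hzc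
  have hzq : z ^ (q + 1) = 1 := by
    have hpow : ∀ (m : ℕ) (v : Fin n → F), act (z ^ m) v = a ^ m • v := by
      intro m
      induction m with
      | zero => intro v; rw [pow_zero, act_one, pow_zero, one_smul]
      | succ m ih => intro v; rw [pow_succ, act_mul, ha, act_smul, ih, smul_smul, pow_succ, mul_comm]
    apply ext_act
    intro v
    rw [hpow, pow_succ, mul_comm, ha1, one_smul, act_one]
  apply hq1
  rw [← hz, orderOf_dvd_iff_pow_eq_one]
  exact Subtype.ext hzq

/-- the number of orbits of `C(P)` on the `P`-fixed points -/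
theorem cnt_modEq (hF : Fintype.card F = q ^ 2) (hn : 3 ≤ n) (hq : ¬ p ∣ q) {d k : ℕ}
    (he : orderOf (-(q : ZMod p)) = 2 * d) (hdk : d ∣ k) (P : Sylow p (PSU n F q)) :
    let _ := psuAct hF hn k
    cnt (P : Subgroup (PSU n F q)) (uX hF n k) ≡ Nat.card (uX hF n k) [MOD p] := by
  intro _
  have hsp : ∀ i : ℕ, ¬ p ∣ q * Fintype.card F ^ i + 1 := by
    intro i h
    rw [hF, ← pow_mul, ← pow_succ'] at h
    have h1 : ((q : ZMod p)) ^ (2 * i + 1) + 1 = 0 := by
      have := (ZMod.natCast_eq_zero_iff _ _).2 h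
      push_cast at this
      exact this
    have h2 : (-(q : ZMod p)) ^ (2 * i + 1) = 1 := by
      rw [Odd.neg_pow ⟨i, rfl⟩]
      linear_combination -h1
    have h3 := orderOf_dvd_of_pow_eq_one h2
    rw [he] at h3
    have h4 : 2 ∣ 2 * i + 1 := (dvd_mul_right 2 d).trans h3
    omega
  have hq1 : ¬ p ∣ q + 1 := by
    have := hsp 0
    rwa [pow_zero, mul_one] at this
  obtain ⟨r, hr⟩ := CharP.exists F
  obtain ⟨⟨l, hl⟩, hrp, hcard⟩ := FiniteField.card F r
  have := Fact.mk hrp
  obtain ⟨j, hj⟩ : ∃ j : ℕ, q = r ^ j := by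
    have h1 : q ∣ r ^ l := by
      have h2 : Fintype.card F = r ^ l := hcard
      rw [← h2, hF]
      exact dvd_pow_self q two_ne_zero
    obtain ⟨j, -, hj⟩ := (Nat.dvd_prime_pow hrp).1 h1
    exact ⟨j, hj⟩
  have hd : p ∣ Fintype.card F ^ d - 1 := by
    have h1 : (-(q : ZMod p)) ^ (2 * d) = 1 := by rw [← he]; exact pow_orderOf_eq_one _
    rw [pow_mul, neg_sq] at h1
    have hpos : 1 ≤ (q ^ 2) ^ d := Nat.one_le_pow _ _ (by have := two_le hF; positivity)
    rw [hF]
    refine (Nat.modEq_iff_dvd' hpos).1 ?_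
    rw [← ZMod.natCast_eq_natCast_iff]
    push_cast
    exact h1.symm
  have hpF : ¬ p ∣ Fintype.card F := by
    rw [hF]
    exact fun h => hq (hp.out.dvd_of_dvd_pow h)
  exact cnt_gen (ρ := guL n F q) (pres_gu hF) (wittTS_gu hF) (r := r) hpF hj hsp
    (fun x y y' => herm_add_right hF x y y') (fun a x y => herm_smul_right a x y) (suGU hF n) (suGU_injective hF)
    (by rw [index_range_suGU hF (by omega)]; exact hq1) (pr n F q) pr_surjective
    (fun z hz => pr_eq_one_iff.1 hz) (not_dvd_card_center hF hn hq1)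
    (fun g U => (congrArg Subtype.val (psu_smul hF hn g U)).trans (by rw [mv_suGU]; rfl)) hd hdk P

end Cfsg.Agent.H646.BR.U
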