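import Cfsg.Agent.H646.BR.UReg
import Cfsg.Agent.LieClassical.HermCount

/-!
# PSU row: the case distinction (helper646, S4891)
-/

set_option autoImplicit false

open Module

namespace Cfsg.Agent.H646.BR.U

open Cfsg
open Cfsg.Agent.LieClassical.HermBasic Cfsg.Agent.LieClassical
open Cfsg.Agent.ClassicalGeometry.PSUAutBasic

variable {F : Type*} [Field F] [Fintype F] {n q : ℕ} {p : ℕ} [hp : Fact p.Prime]

/-- the order of `-q` modulo `p` is at most `n` when `p` divides the order of `PSU` -/
theorem orderOf_le (hF : Fintype.card F = q ^ 2) (hn : 1 ≤ n) (hq : ¬ p ∣ q) (h : p ∣ Nat.card (PSU n F q)) :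
    orderOf (-(q : ZMod p)) ≤ n := by
  have h1 : p ∣ Nat.card (SU n F q) := by
    have h2 := Subgroup.card_eq_card_quotient_mul_card_subgroup (Subgroup.center (SU n F q))
    rw [h2]
    exact h.mul_right _
  have h2 : p ∣ Nat.card (GU n F q) := by
    rw [GUOrder.card_GU_eq hF hn]
    exact h1.mul_left _
  rw [GUOrder.card_GU_of_count hF (HermCount.card_norm_one hF)] at h2
  rcases (Nat.Prime.dvd_mul hp.out).1 h2 with h3 | h3
  · exact absurd (hp.out.dvd_of_dvd_pow h3) hq
  · obtain ⟨i, hi, h4⟩ := (Prime.dvd_finsetProd_iff hp.out.prime _).1 h3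
    have hi' : i + 1 ≤ n := Finset.mem_range.1 hi
    refine le_trans (orderOf_le_of_pow_eq_one (n := i + 1) (Nat.succ_pos i) ?_) hi'
    have hq2 := two_le hF
    by_cases he : Even i
    · rw [if_pos he] at h4
      have h5 := (ZMod.natCast_eq_zero_iff _ _).2 h4
      push_cast at h5
      rw [Odd.neg_pow (Even.add_one he)]
      linear_combination -h5
    · rw [if_neg he] at h4
      have h5 := (ZMod.natCast_eq_zero_iff _ _).2 h4
      rw [Nat.cast_sub (Nat.one_le_pow _ _ (by omega))] at h5
      push_cast at h5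
      rw [Even.neg_pow (Odd.add_one (Nat.not_even_iff_odd.1 he))]
      linear_combination h5

theorem orderOf_pos' (hq : ¬ p ∣ q) : 0 < orderOf (-(q : ZMod p)) := by
  rw [orderOf_pos_iff, isOfFinOrder_iff_pow_eq_one]
  refine ⟨p - 1, Nat.sub_pos_of_lt hp.out.one_lt, ZMod.pow_card_sub_one_eq_one ?_⟩
  rw [neg_ne_zero]
  exact fun h => hq ((ZMod.natCast_eq_zero_iff _ _).1 h)

theorem orderOf_dvd' (hq : ¬ p ∣ q) : orderOf (-(q : ZMod p)) ∣ p - 1 := by
  refine orderOf_dvd_of_pow_eq_one (ZMod.pow_card_sub_one_eq_one ?_)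
  rw [neg_ne_zero]
  exact fun h => hq ((ZMod.natCast_eq_zero_iff _ _).1 h)

/-- the case distinction -/
theorem cases_row {R : Prop} (hF : Fintype.card F = q ^ 2) (hn : 3 ≤ n) (hq : ¬ p ∣ q)
    (h : p ∣ Nat.card (PSU n F q))
    (crit : ∀ k : ℕ, 1 ≤ k → 2 * k ≤ n → (∀ P : Sylow p (PSU n F q),
      ¬ (let _ := psuAct hF hn k; H145.BR.cnt (P : Subgroup (PSU n F q)) (uX hF n k)) ≡ 1 [MOD p]) → R)
    (crit0 : ∀ k : ℕ, 1 ≤ k → 2 * k ≤ n → p ∣ Nat.card (uX hF n k) → R)
    (hodd : Odd (orderOf (-(q : ZMod p))) → orderOf (-(q : ZMod p)) ≤ n → p ∣ Nat.card (uX hF n (n / 2)))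
    (heven : ∀ {d a n0 : ℕ}, orderOf (-(q : ZMod p)) = 2 * d → n = n0 + a * (2 * d) → n0 < 2 * d → 1 ≤ a →
      n0 / 2 + 1 < d → p ∣ Nat.card (uX hF n (n0 / 2 + 1)))
    (hcd : ∀ {d a n0 : ℕ}, orderOf (-(q : ZMod p)) = 2 * d → n = n0 + a * (2 * d) → n0 < 2 * d → 1 ≤ a →
      n0 / 2 + 1 = d → (Nat.card (uX hF n d) : ZMod p) = 2 * a)
    (hc2d : ∀ {d a n0 : ℕ}, orderOf (-(q : ZMod p)) = 2 * d → n = n0 + a * (2 * d) → n0 < 2 * d → 2 ≤ a →
      n0 / 2 + 1 = d → (Nat.card (uX hF n (2 * d)) : ZMod p) = 2 * a * (a - 1))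
    (hone : p ∣ q - 1 → R) : R := by
  have hle := orderOf_le hF (by omega) hq h
  have hpos := orderOf_pos' (p := p) hq
  have hdvd := orderOf_dvd' (p := p) hq
  rcases Nat.even_or_odd (orderOf (-(q : ZMod p))) with he | ho
  · obtain ⟨d, hd⟩ := he
    have hd2 : orderOf (-(q : ZMod p)) = 2 * d := by omega
    have hd1 : 1 ≤ d := by omega
    -- `n = n0 + a * (2 * d)`
    obtain ⟨a, n0, hn0, hna⟩ : ∃ a n0 : ℕ, n0 < 2 * d ∧ n = n0 + a * (2 * d) :=
      ⟨n / (2 * d), n % (2 * d), Nat.mod_lt _ (by omega), (Nat.mod_add_div' n (2 * d)).symm⟩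
    have ha : 1 ≤ a := by
      rcases Nat.eq_zero_or_pos a with h0 | h0
      · subst h0
        omega
      · exact h0
    have had : 2 * d ≤ a * (2 * d) := Nat.le_mul_of_pos_left _ ha
    rcases lt_trichotomy (n0 / 2 + 1) d with hlt | heq | hgt
    · exact crit0 (n0 / 2 + 1) (by omega) (by omega) (heven hd2 hna hn0 ha hlt)
    · rcases Nat.lt_or_ge d 2 with h1 | h2
      · -- `d = 1` : `p ∣ q - 1`
        have hd1' : d = 1 := by omega
        subst hd1'
        apply hone
        have h3 : (-(q : ZMod p)) ^ 2 = 1 := by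
          have := pow_orderOf_eq_one (-(q : ZMod p))
          rwa [hd2] at this
        have h4 : ((q : ZMod p) - 1) * ((q : ZMod p) + 1) = 0 := by
          rw [neg_sq] at h3
          linear_combination h3
        have h5 : (q : ZMod p) + 1 ≠ 0 := by
          intro h6
          have h7 : -(q : ZMod p) = 1 := by linear_combination -h6
          rw [h7, orderOf_one] at hd2
          omega
        have h6 : (q : ZMod p) - 1 = 0 := (mul_eq_zero.1 h4).resolve_right h5
        rw [← ZMod.natCast_eq_zero_iff, Nat.cast_sub (by have := two_le hF; omega), Nat.cast_one]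
        exact h6
      · -- exceptional case
        have hp5 : 5 ≤ p := by
          have h3 : 2 * d ≤ p - 1 := Nat.le_of_dvd (Nat.sub_pos_of_lt hp.out.one_lt) (hd2 ▸ hdvd)
          omega
        by_cases hbad : (2 * a : ZMod p) = 1
        · have ha2 : 2 ≤ a := by
            by_contra h3
            have h4 : a = 1 := by omega
            subst h4
            have h5 : ((1 : ℕ) : ZMod p) = 0 := by
              have h6 : (2 : ZMod p) = 1 := by simpa using hbad
              rw [Nat.cast_one]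
              linear_combination h6
            have h6 := (ZMod.natCast_eq_zero_iff _ _).1 h5
            have := Nat.le_of_dvd one_pos h6
            omega
          have had2 : 2 * (2 * d) ≤ a * (2 * d) := Nat.mul_le_mul_right _ ha2
          refine crit (2 * d) (by omega) (by omega) fun P hP => ?_
          have h3 := (cnt_modEq hF hn hq hd2 (dvd_mul_left d 2) P).symm.trans hP
          have h4 := (ZMod.natCast_eq_natCast_iff _ _ _).2 h3
          rw [hc2d hd2 hna hn0 ha2 heq, Nat.cast_one] at h4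
          have h5 : ((3 : ℕ) : ZMod p) = 0 := by
            push_cast
            linear_combination (2 : ZMod p) * (a - 1) * hbad - 2 * h4 + hbad
          have h6 := Nat.le_of_dvd (by norm_num) ((ZMod.natCast_eq_zero_iff _ _).1 h5)
          omega
        · refine crit d hd1 (by omega) fun P hP => ?_
          have h3 := (cnt_modEq hF hn hq hd2 (dvd_refl d) P).symm.trans hP
          have h4 := (ZMod.natCast_eq_natCast_iff _ _ _).2 h3
          rw [hcd hd2 hna hn0 ha heq, Nat.cast_one] at h4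
          exact hbad h4
    · omega
  · exact crit0 (n / 2) (by omega) (by omega) (hodd ho hle)

end Cfsg.Agent.H646.BR.U
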